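import Groth.Agent.InsepLimit.Main
import Groth.Agent.Var76.KaehlerGen
import Mathlib.RingTheory.Kaehler.Basic
import Mathlib.RingTheory.Polynomial.DegreeLT
import Mathlib.LinearAlgebra.Dual.Lemmas

/-!
Infinitesimal deformations of pencils with prescribed tame ramification.
-/

set_option autoImplicit false
universe u

open Polynomial

noncomputable section

namespace Groth.Agent.RamFinite

open Groth.Agent.InsepLimit

section Coeff

variable {L : Type u} [CommRing L] (δ : L →+ L)

/-- Apply an additive map to every coefficient. -/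
def mapC : L[X] →+ L[X] where
  toFun q := q.sum fun j a => monomial j (δ a)
  map_zero' := sum_zero_index _
  map_add' a b := sum_add_index _ _ _ (fun j => by simp) fun j x y => by simp

@[simp] theorem coeff_mapC (q : L[X]) (j : ℕ) : (mapC δ q).coeff j = δ (q.coeff j) := by
  change (q.sum fun i a => monomial i (δ a)).coeff j = _
  rw [sum_def, finsetSum_coeff]
  simp only [coeff_monomial, Finset.sum_ite_eq']
  split_ifs with h
  · rfl
  · rw [notMem_support_iff.1 h, map_zero]

theorem mapC_mul (hδ : ∀ a b, δ (a * b) = a * δ b + b * δ a) (p q : L[X]) :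
    mapC δ (p * q) = p * mapC δ q + q * mapC δ p := by
  ext j
  rw [coeff_mapC, coeff_mul, coeff_add, coeff_mul, mul_comm q, coeff_mul, map_sum, ← Finset.sum_add_distrib]
  refine Finset.sum_congr rfl fun x _ => ?_
  rw [hδ, coeff_mapC, coeff_mapC]
  ring

theorem mapC_C (a : L) : mapC δ (C a) = C (δ a) := by
  ext j
  rw [coeff_mapC, coeff_C, coeff_C]
  split_ifs <;> simp

theorem mapC_X_sub_C (h1 : δ 1 = 0) (a : L) : mapC δ (X - C a) = -C (δ a) := by
  rw [map_sub, mapC_C, show mapC δ X = 0 by ext j; rw [coeff_mapC, coeff_X]; split_ifs <;> simp [h1]]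
  ring

theorem mapC_pow_X_sub_C (hδ : ∀ a b, δ (a * b) = a * δ b + b * δ a) (h1 : δ 1 = 0) (a : L) :
    ∀ e : ℕ, mapC δ ((X - C a) ^ (e + 1)) = -(C ((e + 1 : ℕ) : L) * C (δ a) * (X - C a) ^ e)
  | 0 => by rw [pow_one, mapC_X_sub_C δ h1]; simp
  | e + 1 => by
    rw [pow_succ, mapC_mul δ hδ, mapC_pow_X_sub_C hδ h1 a e, mapC_X_sub_C δ h1, Nat.cast_succ (e + 1), map_add, map_one]
    ring

theorem dvd_mapC (hδ : ∀ a b, δ (a * b) = a * δ b + b * δ a) (h1 : δ 1 = 0) {a : L} {e : ℕ} {s : L[X]}
    (h : (X - C a) ^ e ∣ s) : (X - C a) ^ (e - 1) ∣ mapC δ s := by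
  rcases e with _ | e
  · simp
  obtain ⟨u, rfl⟩ := h
  rw [mapC_mul δ hδ, mapC_pow_X_sub_C δ hδ h1, Nat.add_sub_cancel]
  exact dvd_add (dvd_mul_of_dvd_left (pow_dvd_pow _ (Nat.le_succ e)) _)
    (dvd_mul_of_dvd_right ((dvd_mul_left _ _).neg_right) _)

end Coeff

variable {L : Type u} [Field L]

/-- The member vanishing at a marked point. -/
def mem' (t : Bool) (α : L) (F G : L[X]) : L[X] := if t then G + C α * F else F + C α * G

/-- The member not vanishing at a marked point. -/
def oth (t : Bool) (F G : L[X]) : L[X] := if t then F else G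

theorem mem'_mem_span (t : Bool) (α : L) (F G : L[X]) : mem' t α F G ∈ Submodule.span L {F, G} := by
  refine Submodule.mem_span_pair.2 ?_
  cases t
  · exact ⟨1, α, by simp [mem', smul_eq_C_mul]⟩
  · exact ⟨α, 1, by simp [mem', smul_eq_C_mul, add_comm]⟩

theorem wronskian_mem' (t : Bool) (α : L) (F G : L[X]) :
    wronskian (mem' t α F G) (oth t F G) = if t then -wronskian F G else wronskian F G := by
  cases t
  · simp [mem', oth, wronskian_add_left, wronskian_smul_left, wronskian_self_eq_zero]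
  · simp [mem', oth, wronskian_add_left, wronskian_smul_left, wronskian_self_eq_zero, wronskian_neg_eq]

/-- The first order change of a pencil, modulo quadratic expressions. -/
def eta (δ : L →+ L) (F G : L[X]) (μ : Fin 3 → L) : L[X] :=
  mapC δ F * G - F * mapC δ G + (C (μ 0) * F ^ 2 + C (μ 1) * (F * G) + C (μ 2) * G ^ 2)

/-- The first order change of a critical value. -/
def val1 (δ : L →+ L) (t : Bool) (α : L) (μ : Fin 3 → L) : L :=
  if t then δ α + (μ 0 - μ 1 * α + μ 2 * α ^ 2) else -δ α + (μ 0 * α ^ 2 - μ 1 * α + μ 2)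

theorem eta_congr (δ : L →+ L) (hδ : ∀ a b, δ (a * b) = a * δ b + b * δ a) (h1 : δ 1 = 0) {F G : L[X]} (μ : Fin 3 → L)
    (t : Bool) {α P : L} {e : ℕ} (h : (X - C P) ^ e ∣ mem' t α F G) :
    (X - C P) ^ (e - 1) ∣ eta δ F G μ - C (val1 δ t α μ) * oth t F G ^ 2 := by
  have hs' := dvd_mapC δ hδ h1 h
  have hs : (X - C P) ^ (e - 1) ∣ mem' t α F G := (pow_dvd_pow _ (Nat.sub_le e 1)).trans h
  cases t
  · simp only [mem', oth, val1, Bool.false_eq_true, if_false] at hs hs' ⊢
    rw [map_add, mapC_mul δ hδ, mapC_C] at hs'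
    have e1 : eta δ F G μ - C (-δ α + (μ 0 * α ^ 2 - μ 1 * α + μ 2)) * G ^ 2 =
        (mapC δ F + (C α * mapC δ G + G * C (δ α))) * G +
          (F + C α * G) * (-mapC δ G + C (μ 0) * (F - C α * G) + C (μ 1) * G) := by
      simp only [eta, map_add, map_sub, map_mul, map_neg, map_pow]
      ring
    rw [e1]
    exact dvd_add (dvd_mul_of_dvd_left hs' _) (dvd_mul_of_dvd_left hs _)
  · simp only [mem', oth, val1, if_true] at hs hs' ⊢
    rw [map_add, mapC_mul δ hδ, mapC_C] at hs'
    have e1 : eta δ F G μ - C (δ α + (μ 0 - μ 1 * α + μ 2 * α ^ 2)) * F ^ 2 =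
        (mapC δ G + (C α * mapC δ F + F * C (δ α))) * (-F) +
          (G + C α * F) * (mapC δ F + C (μ 1) * F + C (μ 2) * (G - C α * F)) := by
      simp only [eta, map_add, map_sub, map_mul, map_pow]
      ring
    rw [e1]
    exact dvd_add (dvd_mul_of_dvd_left hs' _) (dvd_mul_of_dvd_left hs _)

variable {k : Type u} [Field k] [Algebra k L]
variable {d n m : ℕ} {e : Fin n → ℕ} {F G : L[X]} {P α : Fin n → L} {t : Fin n → Bool}

/-- Normalised ramified pencil data. -/
structure Data (k : Type u) [Field k] [Algebra k L] (d n m : ℕ) (e : Fin n → ℕ) (F G : L[X]) (P α : Fin n → L)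
    (t : Fin n → Bool) : Prop where
  mlt : m < d
  Fmonic : F.Monic
  Fdeg : F.natDegree = d
  Gmonic : G.Monic
  Gdeg : G.natDegree = m
  Fcoeff : F.coeff m = 0
  Pinj : Function.Injective P
  dvd : ∀ i, (X - C (P i)) ^ e i ∣ mem' (t i) (α i) F G
  oth_ne : ∀ i, (oth (t i) F G).eval (P i) ≠ 0
  wne : wronskian F G ≠ 0
  two_le : ∀ i, 2 ≤ e i
  sum : ∑ i, e i + 2 = 2 * d + n
  tame : ∀ i, (e i : L) ≠ 0
  gen : IntermediateField.adjoin k
    (Set.range F.coeff ∪ Set.range G.coeff ∪ Set.range P ∪ Set.range α) = ⊤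

namespace Data

variable (h : Data k d n m e F G P α t)

include h

theorem natDegree_prod : (∏ i, (X - C (P i)) ^ (e i - 1)).natDegree + 2 = 2 * d := by
  rw [natDegree_prod_of_monic _ _ fun i _ => (monic_X_sub_C _).pow _]
  simp only [natDegree_pow, natDegree_X_sub_C, mul_one]
  have h1 : ∑ i, (e i - 1) + n = ∑ i, e i := by
    have h2 : ∑ i, (e i - 1) + ∑ _i : Fin n, 1 = ∑ i, e i := by
      rw [← Finset.sum_add_distrib]
      exact Finset.sum_congr rfl fun i _ => by have := h.two_le i; omega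
    simpa using h2
  have := h.sum
  omega

theorem mem'_ne_zero (i : Fin n) : mem' (t i) (α i) F G ≠ 0 := by
  intro h0
  have := h.mlt
  cases ht : t i
  · have h1 := congrArg (fun q : L[X] => q.coeff d) h0
    simp [mem', ht, ← h.Fdeg, h.Fmonic.coeff_natDegree, coeff_eq_zero_of_natDegree_lt (show G.natDegree < F.natDegree by rw [h.Gdeg, h.Fdeg]; omega)] at h1
  · have h1 := congrArg (fun q : L[X] => q.coeff m) h0
    simp [mem', ht, h.Fcoeff] at h1
    rw [← h.Gdeg, h.Gmonic.coeff_natDegree] at h1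
    exact one_ne_zero h1

theorem exists_wronskian_eq : ∃ c : L, c ≠ 0 ∧ wronskian F G = C c * ∏ i, (X - C (P i)) ^ (e i - 1) := by
  obtain ⟨q, hq⟩ := prod_dvd_wronskian h.Pinj h.wne fun i => ⟨_, mem'_mem_span _ _ _ _, h.mem'_ne_zero i, h.dvd i⟩
  have hq0 : q ≠ 0 := fun h0 => h.wne (by rw [hq, h0, mul_zero])
  have h1 := natDegree_wronskian_add_two_le (d := d) h.Fdeg.le (by rw [h.Gdeg]; exact h.mlt.le) h.wne
  rw [hq, natDegree_mul (Finset.prod_ne_zero_iff.2 fun i _ => pow_ne_zero _ (X_sub_C_ne_zero _)) hq0] at h1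
  have h2 := h.natDegree_prod
  have hd : q.natDegree = 0 := by omega
  refine ⟨q.coeff 0, fun h0 => hq0 (by rw [eq_C_of_natDegree_eq_zero hd, h0, map_zero]), ?_⟩
  rw [← eq_C_of_natDegree_eq_zero hd, hq, mul_comm]

theorem not_dvd_succ (i : Fin n) : ¬ (X - C (P i)) ^ (e i + 1) ∣ mem' (t i) (α i) F G := fun hd => by
  obtain ⟨c, hc, hW⟩ := h.exists_wronskian_eq
  have h1 := pow_dvd_wronskian hd (oth (t i) F G)
  rw [wronskian_mem', Nat.add_sub_cancel] at h1
  have h2 : (X - C (P i)) ^ e i ∣ wronskian F G := by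
    cases ht : t i <;> rw [ht] at h1
    · simpa using h1
    · simpa [dvd_neg] using h1
  rw [hW] at h2
  obtain hl | ⟨j, hj, hle⟩ := le_of_pow_dvd_prod h.Pinj
    ((IsUnit.dvd_mul_left ((isUnit_iff_ne_zero.2 hc).map C)).1 h2)
  · have := h.two_le i; omega
  · obtain rfl := h.Pinj hj
    have := h.two_le j; omega

theorem isCoprime : IsCoprime F G := by
  obtain ⟨c, hc, hW⟩ := h.exists_wronskian_eq
  refine isCoprime_of_irreducible_dvd (fun h0 => h.Fmonic.ne_zero h0.1) fun z hz hzF hzG => ?_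
  have h1 : z ∣ wronskian F G := dvd_sub (dvd_mul_of_dvd_left hzF _) (dvd_mul_of_dvd_right hzG _)
  rw [hW] at h1
  have h2 := (IsUnit.dvd_mul_left ((isUnit_iff_ne_zero.2 hc).map C)).1 h1
  obtain ⟨i, -, hi⟩ := (hz.prime.dvd_finsetProd_iff _).1 h2
  have h3 : X - C (P i) ∣ z := ((hz.associated_of_dvd (irreducible_X_sub_C _) (hz.prime.dvd_of_dvd_pow hi))).symm.dvd
  have h4 : X - C (P i) ∣ oth (t i) F G := by
    cases t i
    · exact h3.trans hzG
    · exact h3.trans hzF
  exact h.oth_ne i (dvd_iff_isRoot.1 h4)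

/-- The first order changes of the critical values, linearly. -/
theorem eq_zero_of_val1 (δ : Derivation k L L) (μ : Fin 3 → L) (hη : eta δ.toLinearMap.toAddMonoidHom F G μ = 0)
    : δ = 0 ∧ μ = 0 := by
  let D : L →+ L := δ.toLinearMap.toAddMonoidHom
  have hD : ∀ a b, D (a * b) = a * D b + b * D a := fun a b => δ.leibniz a b
  have h1 : D 1 = 0 := δ.map_one_eq_zero
  have hm := h.mlt
  have hFd : (mapC D F).natDegree < d := by
    rcases eq_or_ne (mapC D F) 0 with hz | hz
    · rw [hz, natDegree_zero]; omega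
    refine (natDegree_lt_iff_degree_lt hz).2 ((degree_lt_iff_coeff_zero _ _).2 fun j hj => ?_)
    rw [coeff_mapC]
    rcases Nat.lt_or_eq_of_le hj with hlt | heq
    · rw [coeff_eq_zero_of_natDegree_lt (by rw [h.Fdeg]; exact hlt), map_zero]
    · rw [← heq, ← h.Fdeg, h.Fmonic.coeff_natDegree, h1]
  have e1 : G * (mapC D F + C (μ 1) * F + C (μ 2) * G) = F * (mapC D G - C (μ 0) * F) := by
    have h0 : mapC D F * G - F * mapC D G + (C (μ 0) * F ^ 2 + C (μ 1) * (F * G) + C (μ 2) * G ^ 2) = 0 := hη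
    linear_combination h0
  have e2 : F ∣ mapC D F + C (μ 2) * G := by
    have h2 := h.isCoprime.dvd_of_dvd_mul_left ⟨_, e1⟩
    have h3 := dvd_sub h2 (dvd_mul_left F (C (μ 1)))
    rwa [show mapC D F + C (μ 1) * F + C (μ 2) * G - C (μ 1) * F = mapC D F + C (μ 2) * G by ring] at h3
  have e3 : mapC D F + C (μ 2) * G = 0 := by
    refine eq_zero_of_dvd_of_natDegree_lt e2 ?_
    rw [h.Fdeg]
    refine (natDegree_add_le _ _).trans_lt (max_lt hFd ((natDegree_C_mul_le _ _).trans_lt (by rw [h.Gdeg]; exact hm)))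
  have hμ2 : μ 2 = 0 := by
    have := congrArg (fun q : L[X] => q.coeff m) e3
    have hGm : G.coeff m = 1 := by rw [← h.Gdeg]; exact h.Gmonic.coeff_natDegree
    simpa [h.Fcoeff, hGm] using this
  have hF0 : mapC D F = 0 := by simpa [hμ2] using e3
  have e4 : C (μ 1) * G = mapC D G - C (μ 0) * F := by
    refine mul_left_cancel₀ h.Fmonic.ne_zero ?_
    rw [← e1, hF0, hμ2, map_zero]
    ring
  have hGm : G.coeff m = 1 := by rw [← h.Gdeg]; exact h.Gmonic.coeff_natDegree
  have hμ0 : μ 0 = 0 := by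
    have := congrArg (fun q : L[X] => q.coeff d) e4
    simp only [coeff_C_mul, coeff_sub, coeff_mapC] at this
    rw [coeff_eq_zero_of_natDegree_lt (show G.natDegree < d by rw [h.Gdeg]; exact hm), map_zero,
      ← h.Fdeg, h.Fmonic.coeff_natDegree] at this
    simpa using this
  have hμ1 : μ 1 = 0 := by
    have := congrArg (fun q : L[X] => q.coeff m) e4
    simp only [coeff_C_mul, coeff_sub, coeff_mapC, hGm, h1, hμ0, zero_mul, sub_zero, mul_one] at this
    exact this
  have hG0 : mapC D G = 0 := by simpa [hμ0, hμ1] using e4.symm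
  have hμ : μ = 0 := by
    funext j
    fin_cases j <;> assumption
  have hα : ∀ i, D (α i) = 0 := fun i => by
    have h2 := eta_congr D hD h1 μ (t i) (h.dvd i)
    rw [show eta D F G μ = 0 from hη, zero_sub, dvd_neg] at h2
    have h3 : X - C (P i) ∣ C (val1 D (t i) (α i) μ) * oth (t i) F G ^ 2 :=
      (dvd_pow_self _ (by have := h.two_le i; omega)).trans h2
    rw [dvd_iff_isRoot, IsRoot.def, eval_mul, eval_C, eval_pow, mul_eq_zero, or_iff_left
      (pow_ne_zero _ (h.oth_ne i))] at h3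
    cases ht : t i <;> simpa [val1, ht, hμ] using h3
  have hP : ∀ i, D (P i) = 0 := fun i => by
    obtain ⟨u, hu⟩ := h.dvd i
    have hu0 : u.eval (P i) ≠ 0 := fun h0 => h.not_dvd_succ i (by
      rw [hu, pow_succ]
      exact mul_dvd_mul_left _ (dvd_iff_isRoot.2 h0))
    have hs0 : mapC D (mem' (t i) (α i) F G) = 0 := by
      cases t i <;> simp [mem', mapC_mul D hD, mapC_C, hF0, hG0, hα]
    obtain ⟨e', he'⟩ : ∃ e', e i = e' + 1 := ⟨e i - 1, by have := h.two_le i; omega⟩
    rw [hu, mapC_mul D hD, he', mapC_pow_X_sub_C D hD h1] at hs0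
    have h4 : (X - C (P i)) ^ e' * ((X - C (P i)) * mapC D u - C ((e' + 1 : ℕ) : L) * C (D (P i)) * u) = 0 := by
      rw [← hs0]; ring
    have h5 := congrArg (eval (P i)) ((mul_eq_zero.1 h4).resolve_left (pow_ne_zero _ (X_sub_C_ne_zero _)))
    simp only [eval_sub, eval_mul, eval_X, eval_C, sub_self, zero_mul, zero_sub, eval_zero, neg_eq_zero,
      mul_eq_zero, hu0, or_false] at h5
    exact h5.resolve_left (he' ▸ h.tame i)
  refine ⟨Derivation.ext fun x => ?_, hμ⟩
  have hx : x ∈ IntermediateField.adjoin k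
      (Set.range F.coeff ∪ Set.range G.coeff ∪ Set.range P ∪ Set.range α) := h.gen ▸ IntermediateField.mem_top
  induction hx using IntermediateField.adjoin_induction with
  | mem y hy =>
    rcases hy with ((⟨j, rfl⟩ | ⟨j, rfl⟩) | ⟨i, rfl⟩) | ⟨i, rfl⟩
    · show D _ = 0
      simpa using congrArg (fun q : L[X] => q.coeff j) hF0
    · show D _ = 0
      simpa using congrArg (fun q : L[X] => q.coeff j) hG0
    · exact hP i
    · exact hα i
  | algebraMap y => simp
  | add y z _ _ hy hz => simp [hy, hz]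
  | inv y _ hy => simp [Derivation.leibniz_inv, hy]
  | mul y z _ _ hy hz => simp [hy, hz]

/-- The bound on the number of moduli. -/
theorem trdeg_add_le [PerfectField k] [Algebra.EssFiniteType k L] (J : Finset (Fin n))
    (hJ : ∀ i, ∃ j ∈ J, t i = t j ∧ α i = α j) : Algebra.trdeg k L ≤ J.card := by
  classical
  let Ω := KaehlerDifferential k L
  let toD : (Ω →ₗ[L] L) → L →+ L := fun φ => (φ.compDer (KaehlerDifferential.D k L)).toLinearMap.toAddMonoidHom
  let ηmap : (Ω →ₗ[L] L) × (Fin 3 → L) →ₗ[L] L[X] :=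
    { toFun := fun z => eta (toD z.1) F G z.2
      map_add' := fun a b => by
        have hm : ∀ q, mapC (toD (a.1 + b.1)) q = mapC (toD a.1) q + mapC (toD b.1) q := fun q => by
          ext j; simp [toD]
        simp only [eta, Prod.fst_add, Prod.snd_add, Pi.add_apply, map_add, hm]
        ring
      map_smul' := fun c a => by
        have hm : ∀ q, mapC (toD (c • a.1)) q = C c * mapC (toD a.1) q := fun q => by
          ext j; simp [toD]
        simp only [eta, Prod.smul_fst, Prod.smul_snd, Pi.smul_apply, smul_eq_mul, map_mul, hm, RingHom.id_apply,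
          smul_eq_C_mul]
        ring }
  let vals : (Ω →ₗ[L] L) × (Fin 3 → L) →ₗ[L] ({j // j ∈ J} → L) :=
    LinearMap.pi fun j => ((oth (t j.1) F G).eval (P j.1) ^ 2)⁻¹ • (Polynomial.leval (P j.1)).comp ηmap
  have hvals : ∀ z (j : {j // j ∈ J}), vals z j = val1 (toD z.1) (t j.1) (α j.1) z.2 := fun z j => by
    have h2 := eta_congr (toD z.1) (fun a b => (z.1.compDer (KaehlerDifferential.D k L)).leibniz a b)
      (z.1.compDer (KaehlerDifferential.D k L)).map_one_eq_zero z.2 (t j.1) (h.dvd j.1)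
    have h3 := dvd_iff_isRoot.1 ((dvd_pow_self _ (by have := h.two_le j.1; omega)).trans h2)
    rw [IsRoot.def, eval_sub, eval_mul, eval_C, eval_pow, sub_eq_zero] at h3
    show ((oth (t j.1) F G).eval (P j.1) ^ 2)⁻¹ * (eta (toD z.1) F G z.2).eval (P j.1) = _
    rw [h3]
    field_simp [h.oth_ne j.1]
  obtain ⟨c, hc, hW⟩ := h.exists_wronskian_eq
  let Q := ∏ i, (X - C (P i)) ^ (e i - 1)
  let S3 : Submodule L L[X] := Submodule.span L (Set.range fun j : Fin 3 => Q * X ^ j.val)
  have hker : Submodule.map ηmap (LinearMap.ker vals) ≤ S3 := by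
    rintro _ ⟨z, hz, rfl⟩
    have hz' : vals z = 0 := hz
    have hdvd : Q ∣ ηmap z := by
      show Q ∣ eta (toD z.1) F G z.2
      refine Finset.prod_dvd_of_coprime (fun i _ j _ hij => (pairwise_coprime_X_sub_C h.Pinj hij).pow) fun i _ => ?_
      obtain ⟨j, hj, htj, hαj⟩ := hJ i
      have h2 := eta_congr (toD z.1) (fun a b => (z.1.compDer (KaehlerDifferential.D k L)).leibniz a b)
        (z.1.compDer (KaehlerDifferential.D k L)).map_one_eq_zero z.2 (t i) (h.dvd i)
      have h0 : val1 (toD z.1) (t i) (α i) z.2 = 0 := by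
        rw [htj, hαj, ← hvals z ⟨j, hj⟩, hz']; rfl
      simpa [h0] using h2
    obtain ⟨q, hq⟩ := hdvd
    by_cases hq0 : q = 0
    · rw [hq, hq0, mul_zero]; exact zero_mem _
    have hdeg : (ηmap z).natDegree ≤ 2 * d := by
      have h1 : ∀ (δ : L →+ L) (q : L[X]), (mapC δ q).natDegree ≤ q.natDegree := fun δ q =>
        natDegree_le_iff_coeff_eq_zero.2 fun j hj => by
          rw [coeff_mapC, coeff_eq_zero_of_natDegree_lt hj, map_zero]
      have hG : G.natDegree ≤ d := by rw [h.Gdeg]; exact h.mlt.le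
      have hF : F.natDegree ≤ d := h.Fdeg.le
      show (eta _ F G z.2).natDegree ≤ 2 * d
      unfold eta
      refine (natDegree_add_le _ _).trans (max_le ((natDegree_sub_le _ _).trans (max_le ?_ ?_)) ?_)
      · exact natDegree_mul_le.trans (by have := h1 (toD z.1) F; omega)
      · exact natDegree_mul_le.trans (by have := h1 (toD z.1) G; omega)
      · refine (natDegree_add_le _ _).trans (max_le ((natDegree_add_le _ _).trans (max_le ?_ ?_)) ?_)
        · exact (natDegree_C_mul_le _ _).trans (natDegree_pow_le.trans (by omega))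
        · exact (natDegree_C_mul_le _ _).trans (natDegree_mul_le.trans (by omega))
        · exact (natDegree_C_mul_le _ _).trans (natDegree_pow_le.trans (by omega))
    have hQd : Q.natDegree + 2 = 2 * d := h.natDegree_prod
    have hQ0 : Q ≠ 0 := Finset.prod_ne_zero_iff.2 fun i _ => pow_ne_zero _ (X_sub_C_ne_zero _)
    rw [hq, natDegree_mul hQ0 hq0] at hdeg
    have hq3 : q.natDegree < 3 := by omega
    rw [hq, q.as_sum_range' 3 hq3, Finset.mul_sum]
    refine sum_mem fun j hj => ?_
    rw [← C_mul_X_pow_eq_monomial, ← mul_assoc, mul_comm Q, mul_assoc, ← smul_eq_C_mul]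
    exact S3.smul_mem _ (Submodule.subset_span ⟨⟨j, Finset.mem_range.1 hj⟩, rfl⟩)
  have hinj : Function.Injective ηmap := by
    rw [← LinearMap.ker_eq_bot, eq_bot_iff]
    intro z hz
    obtain ⟨h0, h1⟩ := h.eq_zero_of_val1 (z.1.compDer (KaehlerDifferential.D k L)) z.2 hz
    have h2 : z.1 = 0 := by
      apply (KaehlerDifferential.linearMapEquivDerivation k L).injective
      rw [map_zero]
      exact h0
    exact Prod.ext h2 h1
  haveI : Module.Finite L Ω := inferInstance
  haveI : Module.Free L Ω := Module.Free.of_divisionRing L Ω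
  haveI : Module.Finite L S3 := Module.Finite.span_of_finite L (Set.finite_range _)
  have h1 := LinearMap.finrank_range_add_finrank_ker vals
  have h2 : Module.finrank L (LinearMap.range vals) ≤ J.card := by
    refine (Submodule.finrank_le _).trans ?_
    rw [Module.finrank_fintype_fun_eq_card, Fintype.card_coe]
  have h3 : Module.finrank L (LinearMap.ker vals) ≤ 3 := by
    rw [(Submodule.equivMapOfInjective ηmap hinj _).finrank_eq]
    exact (Submodule.finrank_mono hker).trans ((finrank_range_le_card _).trans_eq (Fintype.card_fin 3))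
  have h4 : Module.finrank L ((Ω →ₗ[L] L) × (Fin 3 → L)) = Module.finrank L Ω + 3 := by
    rw [Module.finrank_prod, Module.finrank_fin_fun, Module.finrank_linearMap, Module.finrank_self, mul_one]
  refine (Var76.KaehlerGen.trdeg_le_finrank k L).trans (Nat.cast_le.2 ?_)
  have h5 := h1.trans h4
  change Module.finrank L Ω ≤ J.card
  omega

end Data

end Groth.Agent.RamFinite
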