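import Mathlib.RingTheory.Nullstellensatz
import Mathlib.RingTheory.AlgebraicIndependent.Basic
import Mathlib.Algebra.MvPolynomial.Equiv
import Mathlib.RingTheory.Ideal.MinimalPrime.Noetherian
import Mathlib.RingTheory.Localization.FractionRing
import Mathlib.RingTheory.Polynomial.Basic

/-!
Finiteness over a general point, from a bound on the transcendence degree of generic points.
-/

set_option autoImplicit false
universe u

open MvPolynomial

noncomputable section

namespace Groth.Agent.RamFinite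

variable {k : Type u} [Field k] {σ : Type} [Finite σ] {n : ℕ}

/-- The residue field of a prime of a polynomial ring. -/
abbrev Res (q : Ideal (MvPolynomial σ k)) [q.IsPrime] := FractionRing (MvPolynomial σ k ⧸ q)

/-- The map to the residue field. -/
def gpt (q : Ideal (MvPolynomial σ k)) [q.IsPrime] : MvPolynomial σ k →ₐ[k] Res q :=
  (IsScalarTower.toAlgHom k _ (Res q)).comp (Ideal.Quotient.mkₐ k q)

omit [Finite σ] in
theorem gpt_eq_zero_iff (q : Ideal (MvPolynomial σ k)) [q.IsPrime] (f : MvPolynomial σ k) :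
    gpt q f = 0 ↔ f ∈ q := by
  rw [← Ideal.Quotient.eq_zero_iff_mem]
  exact map_eq_zero_iff _ (IsFractionRing.injective (MvPolynomial σ k ⧸ q) (Res q))

omit [Finite σ] in
/-- A dependence among `n + 1` generic coordinates. -/
theorem exists_dependence {ι : Type} [Finite ι] (π : ι → σ) (q : Ideal (MvPolynomial σ k)) [q.IsPrime]
    (h : Algebra.trdeg k (Res q) < Nat.card ι) : ∃ g : MvPolynomial ι k, g ≠ 0 ∧ rename π g ∈ q := by
  cases nonempty_fintype ι
  by_contra hc
  push Not at hc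
  have hi : AlgebraicIndependent k fun i => gpt q (X (π i)) := by
    rw [algebraicIndependent_iff]
    intro g hg
    by_contra hg0
    refine hc g hg0 ((gpt_eq_zero_iff q _).1 ?_)
    have e : (gpt q).comp (rename π) = aeval fun i => gpt q (X (π i)) := algHom_ext fun i => by simp
    rw [← hg, ← e]; rfl
  have h1 := hi.lift_cardinalMk_le_trdeg
  rw [Cardinal.mk_fintype, Cardinal.lift_natCast, Cardinal.lift_uzero, ← Nat.card_eq_fintype_card] at h1
  exact (not_le.2 h) h1

/-- Generic emptiness. -/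
theorem exists_empty_general (π : Fin n → σ) (S : Set (σ → k))
    (hb : ∀ (q : Ideal (MvPolynomial σ k)) [q.IsPrime], vanishingIdeal k S ≤ q →
      (∃ x ∈ S, q ≤ RingHom.ker (aeval x)) → Algebra.trdeg k (Res q) < n) :
    ∃ Φ : MvPolynomial (Fin n) k, Φ ≠ 0 ∧ ∀ P, eval P Φ ≠ 0 → ∀ x ∈ S, x ∘ π ≠ P := by
  classical
  have hfin := Ideal.finite_minimalPrimes_of_isNoetherianRing _ (vanishingIdeal k S)
  have key : ∀ q ∈ (vanishingIdeal k S).minimalPrimes, ∃ g : MvPolynomial (Fin n) k, g ≠ 0 ∧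
      ∀ x ∈ S, q ≤ RingHom.ker (aeval x) → eval (x ∘ π) g = 0 := by
    intro q hq
    haveI := hq.1.1
    by_cases hx : ∃ x ∈ S, q ≤ RingHom.ker (aeval x)
    · obtain ⟨g, hg, hgq⟩ := exists_dependence π q (by rw [Nat.card_fin]; exact hb q hq.1.2 hx)
      refine ⟨g, hg, fun x _ hxq => ?_⟩
      have h1 := hxq hgq
      rw [RingHom.mem_ker, aeval_rename] at h1
      exact h1
    · exact ⟨1, one_ne_zero, fun x hxS hxq => absurd ⟨x, hxS, hxq⟩ hx⟩
  choose g hg hgv using key
  refine ⟨∏ q ∈ hfin.toFinset.attach, g q.1 (hfin.mem_toFinset.1 q.2),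
    Finset.prod_ne_zero_iff.2 fun q _ => hg _ _, fun P hP x hxS hxP => hP ?_⟩
  haveI : (RingHom.ker (aeval x : MvPolynomial σ k →ₐ[k] k)).IsPrime := RingHom.ker_isPrime _
  obtain ⟨q, hq, hqx⟩ := Ideal.exists_minimalPrimes_le (I := vanishingIdeal k S)
    (J := RingHom.ker (aeval x : MvPolynomial σ k →ₐ[k] k))
    (fun f hf => mem_vanishingIdeal_iff.1 hf x hxS)
  rw [map_prod]
  refine Finset.prod_eq_zero (Finset.mem_attach _ ⟨q, hfin.mem_toFinset.2 hq⟩) ?_
  rw [← hxP]
  exact hgv q hq x hxS hqx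

/-- Generic finiteness. -/
theorem exists_finite_general (π : Fin n → σ) (S : Set (σ → k))
    (hb : ∀ (q : Ideal (MvPolynomial σ k)) [q.IsPrime], vanishingIdeal k S ≤ q →
      (∃ x ∈ S, q ≤ RingHom.ker (aeval x)) → Algebra.trdeg k (Res q) ≤ n) :
    ∃ Φ : MvPolynomial (Fin n) k, Φ ≠ 0 ∧ ∀ P, eval P Φ ≠ 0 → {x ∈ S | x ∘ π = P}.Finite := by
  classical
  cases nonempty_fintype σ
  have hfin := Ideal.finite_minimalPrimes_of_isNoetherianRing _ (vanishingIdeal k S)
  have key : ∀ q ∈ (vanishingIdeal k S).minimalPrimes, ∀ s : σ, ∃ g : Polynomial (MvPolynomial (Fin n) k), g ≠ 0 ∧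
      ∀ x ∈ S, q ≤ RingHom.ker (aeval x) → (g.map (eval (x ∘ π))).eval (x s) = 0 := by
    intro q hq s
    haveI := hq.1.1
    by_cases hx : ∃ x ∈ S, q ≤ RingHom.ker (aeval x)
    · obtain ⟨g, hg, hgq⟩ := exists_dependence (fun o : Option (Fin n) => o.elim s π) q ((hb q hq.1.2 hx).trans_lt
        (by rw [Nat.card_eq_fintype_card, Fintype.card_option, Fintype.card_fin]; exact_mod_cast Nat.lt_succ_self n))
      refine ⟨optionEquivLeft k (Fin n) g, (map_ne_zero_iff _ (AlgEquiv.injective _)).2 hg, fun x _ hxq => ?_⟩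
      have h1 := hxq hgq
      rw [RingHom.mem_ker, aeval_rename] at h1
      have e : ((Polynomial.evalRingHom (x s)).comp (Polynomial.mapRingHom (eval (x ∘ π)))).comp
          (optionEquivLeft k (Fin n)).toRingEquiv.toRingHom =
          (aeval (x ∘ fun o : Option (Fin n) => o.elim s π)).toRingHom := by
        apply ringHom_ext
        · intro r; simp
        · intro o; cases o <;> simp
      exact (DFunLike.congr_fun e g).trans h1
    · exact ⟨1, one_ne_zero, fun x hxS hxq => absurd ⟨x, hxS, hxq⟩ hx⟩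
  choose g hg hgv using key
  refine ⟨∏ q ∈ hfin.toFinset.attach, ∏ s, (g q.1 (hfin.mem_toFinset.1 q.2) s).leadingCoeff,
    Finset.prod_ne_zero_iff.2 fun q _ => Finset.prod_ne_zero_iff.2 fun s _ => Polynomial.leadingCoeff_ne_zero.2 (hg _ _ _),
    fun P hP => ?_⟩
  rw [map_prod, Finset.prod_ne_zero_iff] at hP
  refine (hfin.toFinset.attach.finite_toSet.biUnion fun q _ =>
    Set.Finite.pi fun s => Set.Finite.ofFinset ((g q.1 (hfin.mem_toFinset.1 q.2) s).map (eval P)).roots.toFinset
      fun _ => Iff.rfl).subset ?_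
  rintro x ⟨hxS, hxP⟩
  haveI : (RingHom.ker (aeval x : MvPolynomial σ k →ₐ[k] k)).IsPrime := RingHom.ker_isPrime _
  obtain ⟨q, hq, hqx⟩ := Ideal.exists_minimalPrimes_le (I := vanishingIdeal k S)
    (J := RingHom.ker (aeval x : MvPolynomial σ k →ₐ[k] k))
    (fun f hf => mem_vanishingIdeal_iff.1 hf x hxS)
  refine Set.mem_biUnion (Finset.mem_coe.2 (Finset.mem_attach _ ⟨q, hfin.mem_toFinset.2 hq⟩)) ?_
  intro s _
  have hne := hP ⟨q, hfin.mem_toFinset.2 hq⟩ (Finset.mem_attach _ _)
  rw [map_prod, Finset.prod_ne_zero_iff] at hne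
  have hl := hne s (Finset.mem_univ _)
  have h0 : (g q hq s).map (eval P) ≠ 0 := fun h0 => hl (by
    rw [Polynomial.leadingCoeff, ← Polynomial.coeff_map, h0, Polynomial.coeff_zero])
  simp only [Finset.mem_coe, Multiset.mem_toFinset, Polynomial.mem_roots', ne_eq]
  exact ⟨h0, by rw [Polynomial.IsRoot.def, ← hxP]; exact hgv q hq s x hxS hqx⟩

end Groth.Agent.RamFinite
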