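import Groth.Agent.RamFinite.Bound
import Groth.Agent.RamFinite.Generic
import Groth.Prelude.Def_W4c1limliniiiiRamP1

/-!
Ramified pencils at general points are finite and separate the points.
-/

set_option autoImplicit false
universe u

open Polynomial

noncomputable section

namespace Groth.Agent.RamFinite

variable {R : Type u} [CommRing R] {d m n : ℕ}

/-- The monic polynomial with given lower coefficients. -/
def monicPoly (x : Fin d → R) : R[X] := X ^ d + ∑ j, C (x j) * X ^ (j : ℕ)

theorem monicPoly_monic (x : Fin d → R) : (monicPoly x).Monic := monic_X_pow_add (degree_sum_fin_lt x)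

theorem natDegree_monicPoly [Nontrivial R] (x : Fin d → R) : (monicPoly x).natDegree = d :=
  natDegree_eq_of_degree_eq_some (by
    rw [monicPoly, degree_add_eq_left_of_degree_lt, degree_X_pow]
    rw [degree_X_pow]; exact degree_sum_fin_lt x)

theorem coeff_monicPoly (x : Fin d → R) (j : ℕ) :
    (monicPoly x).coeff j = if h : j < d then x ⟨j, h⟩ else if j = d then 1 else 0 := by
  rw [monicPoly, coeff_add, finsetSum_coeff, coeff_X_pow]
  simp only [coeff_C_mul_X_pow]
  by_cases h1 : j < d
  · rw [dif_pos h1, if_neg h1.ne, zero_add,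
      Finset.sum_eq_single ⟨j, h1⟩ (fun b _ hb => if_neg fun hj => hb (Fin.ext hj.symm)) (by simp), if_pos rfl]
  · rw [dif_neg h1, Finset.sum_eq_zero fun b _ => if_neg (by have := b.2; omega), add_zero]

theorem map_monicPoly {S : Type u} [CommRing S] (φ : R →+* S) (x : Fin d → R) :
    (monicPoly x).map φ = monicPoly fun j => φ (x j) := by
  simp [monicPoly, Polynomial.map_sum]

theorem eq_monicPoly {F : R[X]} (h : F.Monic) (hd : F.natDegree = d) :
    monicPoly (fun j : Fin d => F.coeff j) = F := by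
  ext j
  rw [coeff_monicPoly]
  split_ifs with h1 h2
  · rfl
  · rw [h2, ← hd, h.coeff_natDegree]
  · rw [coeff_eq_zero_of_natDegree_lt (by omega)]

/-- The parameters of a normalised pencil. -/
abbrev Idx (d m n : ℕ) := Fin d ⊕ (Fin m ⊕ (Fin n ⊕ Fin n))

variable (x : Idx d m n → R)

def pF : R[X] := monicPoly fun j => x (.inl j)
def pG : R[X] := monicPoly fun j => x (.inr (.inl j))
def pP : Fin n → R := fun i => x (.inr (.inr (.inl i)))
def pA : Fin n → R := fun i => x (.inr (.inr (.inr i)))

variable {x}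
variable {S : Type u} [CommRing S] (φ : R →+* S)

theorem map_pF : (pF x).map φ = pF (φ ∘ x) := map_monicPoly φ _
theorem map_pG : (pG x).map φ = pG (φ ∘ x) := map_monicPoly φ _

omit x φ

variable {k : Type u} [Field k] {e : Fin n → ℕ}

/-- Normalised pencils at the universal points. -/
def sols (d m : ℕ) (e : Fin n → ℕ) (t : Fin n → Bool) : Set (Idx d m n → k) :=
  {x | Data k d n m e (pF x) (pG x) (pP x) (pA x) t}

theorem data_generic {T : Set (Idx d m n → k)} {t : Fin n → Bool} (hT : T ⊆ sols d m e t)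
    (q : Ideal (MvPolynomial (Idx d m n) k)) [q.IsPrime] (hq : MvPolynomial.vanishingIdeal k T ≤ q)
    {x : Idx d m n → k} (hx : x ∈ T) (hqx : q ≤ RingHom.ker (MvPolynomial.aeval x)) :
    Data k d n m e (pF fun i => gpt q (MvPolynomial.X i)) (pG fun i => gpt q (MvPolynomial.X i))
      (pP fun i => gpt q (MvPolynomial.X i)) (pA fun i => gpt q (MvPolynomial.X i)) t := by
  have hD : Data k d n m e (pF x) (pG x) (pP x) (pA x) t := hT hx
  let B := MvPolynomial (Idx d m n) k
  let c : B →+* Res q := (gpt q).toRingHom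
  let ev : (Idx d m n → k) → B →+* k := fun y => (MvPolynomial.aeval y).toRingHom
  let X' : Idx d m n → B := MvPolynomial.X
  have hev : ∀ y, ev y ∘ X' = y := fun y => funext fun i => MvPolynomial.aeval_X y i
  have hcl : ∀ f : B, (∀ y ∈ T, ev y f = 0) → c f = 0 := fun f hf =>
    (gpt_eq_zero_iff q f).2 (hq (MvPolynomial.mem_vanishingIdeal_iff.2 hf))
  have hop : ∀ f : B, ev x f ≠ 0 → c f ≠ 0 := fun f hf h0 => hf (hqx ((gpt_eq_zero_iff q f).1 h0))
  refine ⟨hD.mlt, monicPoly_monic _, natDegree_monicPoly _, monicPoly_monic _, natDegree_monicPoly _, ?_, ?_, ?_, ?_, ?_,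
    hD.two_le, hD.sum, fun i => ?_, ?_⟩
  · show (pF (c ∘ X')).coeff m = 0
    rw [← map_pF, Polynomial.coeff_map]
    refine hcl _ fun y hy => ?_
    rw [← Polynomial.coeff_map, map_pF, hev]
    exact (hT hy).Fcoeff
  · intro i j hij
    by_contra hne
    refine hop (pP X' i - pP X' j) ?_ (by rw [map_sub]; exact sub_eq_zero.2 hij)
    rw [map_sub, sub_ne_zero]
    exact fun h => hne (hD.Pinj (((MvPolynomial.aeval_X x _).symm.trans h).trans (MvPolynomial.aeval_X x _)))
  · intro i
    have hm : ∀ {S : Type u} [CommRing S] (φ : B →+* S), (if t i then pG X' + C (pA X' i) * pF X' else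
        pF X' + C (pA X' i) * pG X').map φ = if t i then pG (φ ∘ X') + C (φ (pA X' i)) * pF (φ ∘ X') else
        pF (φ ∘ X') + C (φ (pA X' i)) * pG (φ ∘ X') := fun φ => by
      split_ifs <;> simp [Polynomial.map_add, Polynomial.map_mul, map_pF, map_pG]
    have hq' : ((X - C (pP X' i)) ^ e i).Monic := (monic_X_sub_C _).pow _
    have h0 : ((if t i then pG X' + C (pA X' i) * pF X' else pF X' + C (pA X' i) * pG X') %ₘ
        (X - C (pP X' i)) ^ e i).map c = 0 := by
      ext j
      rw [Polynomial.coeff_map, Polynomial.coeff_zero]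
      refine hcl _ fun y hy => ?_
      have h1 := (hT hy).dvd i
      unfold mem' at h1
      rw [← Polynomial.coeff_map, map_modByMonic _ hq', hm, hev, Polynomial.map_pow, Polynomial.map_sub,
        Polynomial.map_X, Polynomial.map_C]
      have h2 : ev y (pP X' i) = pP y i := MvPolynomial.aeval_X y _
      have h3 : ev y (pA X' i) = pA y i := MvPolynomial.aeval_X y _
      rw [h2, h3, (modByMonic_eq_zero_iff_dvd ((monic_X_sub_C _).pow _)).2 h1, Polynomial.coeff_zero]
    rw [map_modByMonic _ hq', hm, Polynomial.map_pow, Polynomial.map_sub, Polynomial.map_X, Polynomial.map_C,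
      modByMonic_eq_zero_iff_dvd ((monic_X_sub_C _).pow _)] at h0
    exact h0
  · intro i h0
    refine hop (if t i then (pF X').eval (pP X' i) else (pG X').eval (pP X' i)) ?_ ?_
    · have h2 : ev x (pP X' i) = pP x i := MvPolynomial.aeval_X x _
      have h1 := hD.oth_ne i
      unfold oth at h1
      cases ht : t i <;> simp only [ht, Bool.false_eq_true, if_false, if_true] at h1 ⊢
      · rw [← Polynomial.eval_map_apply, map_pG, hev, h2]; exact h1
      · rw [← Polynomial.eval_map_apply, map_pF, hev, h2]; exact h1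
    · unfold oth at h0
      cases ht : t i <;> simp only [ht, Bool.false_eq_true, if_false, if_true] at h0 ⊢
      · rw [← Polynomial.eval_map_apply, map_pG]; exact h0
      · rw [← Polynomial.eval_map_apply, map_pF]; exact h0
  · intro h0
    obtain ⟨j, hj⟩ : ∃ j, (wronskian (pF x) (pG x)).coeff j ≠ 0 := by
      by_contra hc; push Not at hc; exact hD.wne (ext fun j => (hc j).trans (coeff_zero j).symm)
    refine hop ((wronskian (pF X') (pG X')).coeff j) ?_ ?_
    · rw [← Polynomial.coeff_map, InsepLimit.map_wronskian, map_pF, map_pG, hev]; exact hj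
    · rw [← Polynomial.coeff_map, InsepLimit.map_wronskian, map_pF, map_pG]
      exact (congrArg (fun p => p.coeff j) h0).trans (coeff_zero j)
  · rw [← map_natCast (algebraMap k (Res q))]
    exact fun h => hD.tame i ((map_eq_zero _).1 h)
  · rw [eq_top_iff]
    rintro z -
    obtain ⟨a, b, -, rfl⟩ := IsFractionRing.div_surjective (A := MvPolynomial (Idx d m n) k ⧸ q) (K := Res q) z
    obtain ⟨a, rfl⟩ := Ideal.Quotient.mk_surjective a
    obtain ⟨b, rfl⟩ := Ideal.Quotient.mk_surjective b
    let E := IntermediateField.adjoin k (Set.range (pF fun i => gpt q (MvPolynomial.X i)).coeff ∪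
      Set.range (pG fun i => gpt q (MvPolynomial.X i)).coeff ∪ Set.range (pP fun i => gpt q (MvPolynomial.X i)) ∪
      Set.range (pA fun i => gpt q (MvPolynomial.X i)))
    have hX : ∀ i, gpt q (MvPolynomial.X i) ∈ E := by
      intro i
      refine IntermediateField.subset_adjoin _ _ ?_
      rcases i with j | j | j | j
      · exact .inl (.inl (.inl ⟨j, by rw [pF, coeff_monicPoly, dif_pos j.2]⟩))
      · exact .inl (.inl (.inr ⟨j, by rw [pG, coeff_monicPoly, dif_pos j.2]⟩))
      · exact .inl (.inr ⟨j, rfl⟩)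
      · exact .inr ⟨j, rfl⟩
    have hall : ∀ f, gpt q f ∈ E := by
      intro f
      induction f using MvPolynomial.induction_on with
      | C r => rw [← MvPolynomial.algebraMap_eq, AlgHom.commutes]; exact E.algebraMap_mem r
      | add f g hf hg => rw [map_add]; exact E.add_mem hf hg
      | mul_X f i hf => rw [map_mul]; exact E.mul_mem hf (hX i)
    exact E.div_mem (hall a) (hall b)

variable [IsAlgClosed k]

theorem exists_sols_finite (d m : ℕ) (e : Fin n → ℕ) (t : Fin n → Bool) :
    ∃ Φ : MvPolynomial (Fin n) k, Φ ≠ 0 ∧ ∀ P, MvPolynomial.eval P Φ ≠ 0 →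
      {x ∈ sols d m e t | x ∘ (fun i => (.inr (.inr (.inl i)) : Idx d m n)) = P}.Finite := by
  refine exists_finite_general _ _ fun q _ hq ⟨x, hx, hqx⟩ => ?_
  have h := data_generic (T := sols (k := k) d m e t) Set.Subset.rfl q hq hx hqx
  simpa using h.trdeg_add_le Finset.univ fun i => ⟨i, Finset.mem_univ _, rfl, rfl⟩

theorem exists_collision_empty (d m : ℕ) (e : Fin n → ℕ) (t : Fin n → Bool) (i j : Fin n) (hij : i ≠ j) (htij : t i = t j) :
    ∃ Φ : MvPolynomial (Fin n) k, Φ ≠ 0 ∧ ∀ P, MvPolynomial.eval P Φ ≠ 0 →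
      ∀ x ∈ sols d m e t, pA x i = pA x j → x ∘ (fun i => (.inr (.inr (.inl i)) : Idx d m n)) ≠ P := by
  obtain ⟨Φ, hΦ, h⟩ := exists_empty_general (fun i => (.inr (.inr (.inl i)) : Idx d m n))
    {x ∈ sols (k := k) d m e t | pA x i = pA x j} fun q _ hq ⟨x, hx, hqx⟩ => by
    have h := data_generic (Set.sep_subset _ _) q hq hx hqx
    have hα : gpt q (MvPolynomial.X (.inr (.inr (.inr i)))) = gpt q (MvPolynomial.X (.inr (.inr (.inr j)))) := by
      rw [← sub_eq_zero, ← map_sub, gpt_eq_zero_iff]
      refine hq (MvPolynomial.mem_vanishingIdeal_iff.2 fun y hy => ?_)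
      simpa [sub_eq_zero, pA] using hy.2
    refine (h.trdeg_add_le (Finset.univ.erase j) fun l => ?_).trans_lt ?_
    · by_cases hl : l = j
      · subst hl
        exact ⟨i, Finset.mem_erase.2 ⟨hij, Finset.mem_univ _⟩, htij.symm, hα.symm⟩
      · exact ⟨l, Finset.mem_erase.2 ⟨hl, Finset.mem_univ _⟩, rfl, rfl⟩
    · rw [Nat.cast_lt, Finset.card_erase_of_mem (Finset.mem_univ _), Finset.card_fin]
      have := i.isLt
      omega
  exact ⟨Φ, hΦ, fun P hP x hx hA => h P hP x ⟨hx, hA⟩⟩

open W4c1limliniiii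

/-- The normal form of a ramified pencil. -/
theorem exists_normal_form {p : ℕ} [CharP k p] {d : ℕ} {e : Fin n → ℕ} (he : Admissible p d e) {P : Fin n → k}
    (hP : Function.Injective P) {V : Submodule k k[X]} (hV : V ∈ ramMaps d P e) :
    ∃ (m : Fin d) (t : Fin n → Bool) (x : Idx d m n → k), x ∈ sols d (m : ℕ) e t ∧ pP x = P ∧
      V = Submodule.span k {pF x, pG x} ∧
      ∀ i j, ∀ s ∈ V, s ≠ 0 → s.IsRoot (P i) → s.IsRoot (P j) → t i = t j ∧ pA x i = pA x j := by
  classical
  obtain ⟨⟨hdeg, hrk, ⟨s0, hs0, hd0⟩, hbp⟩, ⟨S1, hS1, S2, hS2, hW⟩, hram⟩ := hV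
  obtain ⟨he2, hesum⟩ := he
  have hd : 1 ≤ d := by
    by_contra hd
    obtain rfl : d = 0 := by omega
    rcases Nat.eq_zero_or_pos n with rfl | hn
    · simp at hesum
    · have := he2 ⟨0, hn⟩; omega
  have hle : ∀ s ∈ V, s.natDegree ≤ d := fun s hs =>
    natDegree_le_iff_degree_le.2 (mem_degreeLE.1 (hdeg hs))
  have hs00 : s0 ≠ 0 := fun h => by rw [h, natDegree_zero] at hd0; omega
  let F0 := C s0.leadingCoeff⁻¹ * s0
  have hF0 : F0 ∈ V := by rw [show F0 = s0.leadingCoeff⁻¹ • s0 from (smul_eq_C_mul _).symm]; exact V.smul_mem _ hs0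
  have hF0m : F0.Monic := by
    rw [show F0 = s0 * C s0.leadingCoeff⁻¹ from mul_comm _ _]; exact monic_mul_leadingCoeff_inv hs00
  have hF0d : F0.natDegree = d := by
    rw [natDegree_C_mul (inv_ne_zero (leadingCoeff_ne_zero.2 hs00)), hd0]
  obtain ⟨G0, hG0, hG00, hG0d⟩ : ∃ G ∈ V, G ≠ 0 ∧ G.natDegree < d := by
    obtain ⟨v, hv, hvn⟩ : ∃ v ∈ V, v ∉ Submodule.span k {F0} := by
      refine SetLike.not_le_iff_exists.1 fun h => ?_
      have := (Submodule.finrank_mono h).trans (finrank_span_singleton hF0m.ne_zero).le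
      omega
    refine ⟨v - C (v.coeff d) * F0, V.sub_mem hv (by rw [← smul_eq_C_mul]; exact V.smul_mem _ hF0), fun h => hvn ?_, ?_⟩
    · rw [sub_eq_zero.1 h, ← smul_eq_C_mul]; exact Submodule.smul_mem _ _ (Submodule.mem_span_singleton_self _)
    · rcases eq_or_ne (v - C (v.coeff d) * F0) 0 with h | h
      · rw [h, natDegree_zero]; omega
      refine (natDegree_lt_iff_degree_lt h).2 ((degree_lt_iff_coeff_zero _ _).2 fun j hj => ?_)
      rcases eq_or_lt_of_le hj with rfl | hlt
      · rw [coeff_sub, coeff_C_mul, ← hF0d, hF0m.coeff_natDegree, mul_one, sub_self]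
      · rw [coeff_sub, coeff_C_mul, coeff_eq_zero_of_natDegree_lt ((hle v hv).trans_lt hlt),
          coeff_eq_zero_of_natDegree_lt (show F0.natDegree < j by omega), mul_zero, sub_zero]
  let G := C G0.leadingCoeff⁻¹ * G0
  have hG : G ∈ V := by rw [show G = G0.leadingCoeff⁻¹ • G0 from (smul_eq_C_mul _).symm]; exact V.smul_mem _ hG0
  have hGm : G.Monic := by
    rw [show G = G0 * C G0.leadingCoeff⁻¹ from mul_comm _ _]; exact monic_mul_leadingCoeff_inv hG00
  have hGd : G.natDegree = G0.natDegree := natDegree_C_mul (inv_ne_zero (leadingCoeff_ne_zero.2 hG00))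
  let m : Fin d := ⟨G.natDegree, hGd ▸ hG0d⟩
  let F := F0 - C (F0.coeff m) * G
  have hlt : (C (F0.coeff m) * G).natDegree < F0.natDegree := (natDegree_C_mul_le _ _).trans_lt (by rw [hF0d]; exact m.2)
  have hFm : F.Monic := hF0m.sub_of_left (degree_lt_degree hlt)
  have hFd : F.natDegree = d := by
    rw [← hF0d]; exact natDegree_eq_of_degree_eq (degree_sub_eq_left_of_degree_lt (degree_lt_degree hlt))
  have hF : F ∈ V := V.sub_mem hF0 (by rw [← smul_eq_C_mul]; exact V.smul_mem _ hG)
  have hFc : F.coeff m = 0 := by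
    have hG1 : G.coeff (m : ℕ) = 1 := hGm.coeff_natDegree
    show (F0 - C (F0.coeff (m : ℕ)) * G).coeff (m : ℕ) = 0
    rw [coeff_sub, coeff_C_mul G, hG1, mul_one, sub_self]
  have hV' : V = Submodule.span k {F, G} := by
    haveI : Module.Finite k V := Module.finite_of_finrank_eq_succ (n := 1) hrk
    have hli : LinearIndependent k ![F, G] := by
      rw [LinearIndependent.pair_iff]
      intro a b hab
      have h1 := congrArg (fun q : k[X] => q.coeff d) hab
      simp only [coeff_add, coeff_smul, coeff_zero, smul_eq_mul] at h1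
      rw [coeff_eq_zero_of_natDegree_lt (show G.natDegree < d from m.2), ← hFd, hFm.coeff_natDegree, mul_zero,
        add_zero, mul_one] at h1
      rw [h1, zero_smul, zero_add] at hab
      exact ⟨h1, (smul_eq_zero.1 hab).resolve_right hGm.ne_zero⟩
    refine (Submodule.eq_of_le_of_finrank_eq (Submodule.span_le.2 (by simp [Set.insert_subset_iff, hF, hG])) ?_).symm
    rw [hrk, ← Matrix.range_cons_cons_empty F G ![], finrank_span_eq_card hli, Fintype.card_fin]
  have hmem : ∀ s ∈ V, ∃ a b : k, s = C a * F + C b * G := fun s hs => by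
    rw [hV', Submodule.mem_span_pair] at hs
    obtain ⟨a, b, rfl⟩ := hs
    exact ⟨a, b, by simp [smul_eq_C_mul]⟩
  let t : Fin n → Bool := fun i => decide (F.eval (P i) ≠ 0)
  let α : Fin n → k := fun i => -(G.eval (P i)) / F.eval (P i)
  have hoth : ∀ i, (oth (t i) F G).eval (P i) ≠ 0 := fun i => by
    by_cases h : F.eval (P i) = 0
    · simp only [oth, t, h, ne_eq, not_true_eq_false, decide_false, Bool.false_eq_true, if_false]
      intro h'
      obtain ⟨s, hs, hsne⟩ := hbp (P i)
      obtain ⟨a, b, rfl⟩ := hmem s hs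
      exact hsne (by simp [h, h'])
    · simpa [oth, t, h] using h
  -- members vanishing at `P i` are proportional to the chosen one
  have hvan : ∀ i, ∀ s ∈ V, s.IsRoot (P i) → ∃ c, s = C c * mem' (t i) (α i) F G := fun i s hs hr => by
    obtain ⟨a, b, rfl⟩ := hmem s hs
    simp only [IsRoot.def, eval_add, eval_mul, eval_C] at hr
    by_cases h : F.eval (P i) = 0
    · have hg : G.eval (P i) ≠ 0 := by simpa [oth, t, h] using hoth i
      obtain rfl : b = 0 := by simpa [h, hg] using hr
      exact ⟨a, by simp [mem', t, α, h]⟩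
    · refine ⟨b, ?_⟩
      have ha : a = b * α i := by
        simp only [α]
        field_simp
        linear_combination hr
      simp only [mem', t, h, ne_eq, not_false_eq_true, decide_true, if_true, ha, map_mul]
      ring
  have hx : ∀ {N : ℕ} (H : k[X]), H.Monic → H.natDegree = N → monicPoly (fun j : Fin N => H.coeff j) = H :=
    fun H h h' => eq_monicPoly h h'
  let x : Idx d m n → k := Sum.elim (fun j => F.coeff j) (Sum.elim (fun j => G.coeff j) (Sum.elim P α))
  have hxF : pF x = F := hx F hFm hFd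
  have hxG : pG x = G := hx G hGm rfl
  refine ⟨m, t, x, ?_, rfl, by rw [hxF, hxG]; exact hV', ?_⟩
  · refine ⟨m.2, monicPoly_monic _, natDegree_monicPoly _, monicPoly_monic _, natDegree_monicPoly _, by rw [hxF]; exact hFc, hP, fun i => ?_,
      fun i => by rw [hxF, hxG]; exact hoth i, ?_, fun i => (he2 i).1, hesum, fun i => ?_, ?_⟩
    · rw [hxF, hxG]
      obtain ⟨⟨s, hs, hsn, hse⟩, -⟩ := hram i
      have hd' : (X - C (P i)) ^ e i ∣ s :=
        (pow_dvd_pow _ hse).trans (pow_rootMultiplicity_dvd s (P i))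
      obtain ⟨c, rfl⟩ := hvan i s hs (dvd_iff_isRoot.1 ((dvd_pow_self _ (by have := (he2 i).1; omega)).trans hd'))
      have hc : c ≠ 0 := fun h => hsn (by simp [h])
      exact (IsUnit.dvd_mul_left ((isUnit_iff_ne_zero.2 hc).map C)).1 hd'
    · rw [hxF, hxG]
      obtain ⟨a, b, rfl⟩ := hmem S1 hS1
      obtain ⟨a', b', rfl⟩ := hmem S2 hS2
      intro h
      apply hW
      simp only [wronskian, derivative_add, derivative_mul, derivative_C, zero_mul, zero_add] at h ⊢
      linear_combination (C a * C b' - C b * C a') * h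
    · intro h
      exact (he2 i).2.2 ((CharP.cast_eq_zero_iff k p (e i)).1 h)
    · exact eq_top_iff.2 fun z _ => IntermediateField.algebraMap_mem _ z
  · intro i j s hs hs0 hi hj
    obtain ⟨c, hc⟩ := hvan i s hs hi
    obtain ⟨c', hc'⟩ := hvan j s hs hj
    have hc0 : c ≠ 0 := fun h => hs0 (by simp [hc, h])
    show t i = t j ∧ α i = α j
    have h1 := congrArg (fun q : k[X] => q.coeff d) (hc.symm.trans hc')
    have h2 := congrArg (fun q : k[X] => q.coeff m) (hc.symm.trans hc')
    have eF : F.coeff d = 1 := hFd ▸ hFm.coeff_natDegree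
    have eG : G.coeff d = 0 := coeff_eq_zero_of_natDegree_lt m.2
    have eGm : G.coeff (m : ℕ) = 1 := hGm.coeff_natDegree
    have hf : ∀ l, t l = false → α l = 0 := fun l hl => by
      have : F.eval (P l) = 0 := by simpa [t] using hl
      simp [α, this]
    cases hti : t i <;> cases htj : t j <;>
      simp [mem', hti, htj, eF, eG, eGm, hFc, coeff_C_mul, mul_add] at h1 h2
    · exact ⟨rfl, (hf i hti).trans (hf j htj).symm⟩
    · exfalso; apply hc0; simp_all
    · exfalso; apply hc0; simp_all
    · subst h2; exact ⟨rfl, mul_left_cancel₀ hc0 h1⟩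

end Groth.Agent.RamFinite
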